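import Cfsg.Agent.SP.Iface_m3
import Cfsg.Agent.SP.NegS.Gen
import Cfsg.Agent.H495.SprThRep
import Cfsg.Agent.H555.Hall.ZStar_m3
import Cfsg.Agent.BpSpor.ThThree
import Cfsg.Agent.CpAutTh.ThreeE
import Cfsg.Agent.H94.NBTh
import Cfsg.Agent.H777.Th3.ThEl_m3
import Cfsg.Agent.H491.PB.ThC
import Cfsg.Agent.H653.ThE.P5
import Cfsg.Agent.H174.Ore.DegTh
import Cfsg.Agent.H49.ThFiveDat_m3
import Cfsg.Agent.H49.ThSevenDat_m3
import Cfsg.Agent.H502.TO.StarB
import Cfsg.Agent.H871.Th7.Main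
import Cfsg.Agent.H555.Hall.ThCent
import Cfsg.Agent.FastGrp
import Cfsg.Agent.Prune
set_option linter.all false

section
prune_inst 0x7f00000000000000000000000000000000000000000000000000000000000000000000000000000000000000000000000000000000000000000000000000000000000000000000000000000000000000003fffffffffffffffffffffffffffbeffbdffffffff

-- part: SP/NTh/Iface
section
set_option linter.all false
open scoped Cfsg.Agent.FastGrp

/-! # S5755, row `Th`: the boxes (helper23)

`Thr` collects the counting thresholds (proved in `SP/NTh/Base.lean`).  A pair `(A, B)` with `B` maximal normal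
in `A` is excluded according to the local type of `A`; `negTh_of` assembles the boxes. -/

set_option autoImplicit false

namespace Cfsg.Agent.SP.NTh

open Subgroup Cfsg.Agent.SP Cfsg.Agent.Th.Word Cfsg.Agent.Th.Gen248 Cfsg.Agent.Th.Hom248 Cfsg.Agent.Th.IndexUpper
open Cfsg.Agent.CpAutTh.Data Cfsg.Agent.CpAutTh.Local

/-- the Thompson group -/
abbrev Th : Type := Cfsg.Spor.Th

/-- class 3A: type `(3, 3)` in `A9`, centraliser `3 × G2(3)` -/
noncomputable def xA : Th := ev gTh X33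
/-- class 3B: type `(3, 3, 3)` in `A9`, 3-central -/
noncomputable def xB : Th := ev gTh X333
/-- class 3C: a 3-cycle in `A9` -/
noncomputable def xC : Th := ev gTh X3

/-- elements of `A` of order `r` -/
noncomputable def nOrd (A : Subgroup Th) (r : ℕ) : ℕ := {x : Th | x ∈ A ∧ orderOf x = r}.ncard
/-- elements of `A` conjugate to `y` -/
noncomputable def nCls (A : Subgroup Th) (y : Th) : ℕ := {x : Th | x ∈ A ∧ IsConj y x}.ncard
/-- elements of `A` outside `B` of order `r` -/
noncomputable def oOrd (A B : Subgroup Th) (r : ℕ) : ℕ := {x : Th | (x ∈ A ∧ x ∉ B) ∧ orderOf x = r}.ncard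
/-- elements of `A` outside `B` conjugate to `y` -/
noncomputable def oCls (A B : Subgroup Th) (y : Th) : ℕ := {x : Th | (x ∈ A ∧ x ∉ B) ∧ IsConj y x}.ncard

/-- The centraliser bounds and the counting thresholds. -/
structure Thr : Prop where
  c2 : ∀ x : Th, orderOf x = 2 → Nat.card (centralizer ({x} : Set Th)) = 92897280
  cA : Nat.card (centralizer ({xA} : Set Th)) ∣ 12737088
  cB : Nat.card (centralizer ({xB} : Set Th)) ∣ 472392
  cC : Nat.card (centralizer ({xC} : Set Th)) ∣ 174960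
  c9 : ∀ x : Th, orderOf x = 9 ∨ orderOf x = 27 → Nat.card (centralizer ({x} : Set Th)) ∣ 5832
  c7 : ∀ x : Th, orderOf x = 7 → Nat.card (centralizer ({x} : Set Th)) ∣ 1176
  c13 : ∀ x : Th, orderOf x = 13 → Nat.card (centralizer ({x} : Set Th)) ∣ 39
  two : ∀ {A B : Subgroup Th}, IsPair A B → 2 ∣ B.relIndex A → 31255 ≤ nOrd A 2
  out2 : ∀ {A B : Subgroup Th}, IsPair A B → 2 ∣ B.relIndex A →
    90745943887872000 ≤ oOrd A B 2 ^ 2 * 92897280 + oOrd A B 4 ^ 2 * 491520 + oOrd A B 8 ^ 2 * 196608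
  three : ∀ {A B : Subgroup Th}, IsPair A B → 3 ∣ B.relIndex A →
    2 * 90745943887872000 ≤ nCls A xA ^ 2 * 12737088 + nCls A xB ^ 2 * 472392 + nCls A xC ^ 2 * 174960
  out3 : ∀ {A B : Subgroup Th}, IsPair A B → 3 ∣ B.relIndex A →
    6 * 90745943887872000 ≤
      3 * (oCls A B xA ^ 2 * 12737088 + oCls A B xB ^ 2 * 472392 + oCls A B xC ^ 2 * 174960) +
        (oOrd A B 9 + oOrd A B 27) ^ 2 * 5832
  five : ∀ {A B : Subgroup Th}, IsPair A B → 5 ∣ B.relIndex A → 10999754 ≤ nOrd A 5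
  seven : ∀ {A B : Subgroup Th}, IsPair A B → 7 ∣ B.relIndex A → 21500000 ≤ nOrd A 7
  big : ∀ {A B : Subgroup Th}, IsPair A B → ∀ r : ℕ, r.Prime → 11 ≤ r → r ∣ B.relIndex A → 167000000 ≤ nOrd A r

/-- `A` normalises a nontrivial `p`-subgroup -/
def InLoc (p : ℕ) (A : Subgroup Th) : Prop :=
  ∃ V : Subgroup Th, V ≠ ⊥ ∧ IsPGroup p V ∧ A ≤ normalizer (V : Set Th)

/-- `A` lies in no local subgroup -/
def NoLoc (A : Subgroup Th) : Prop := ∀ p : ℕ, p.Prime → ¬ InLoc p A

/-- The almost simple situation. -/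
structure AS (A B L : Subgroup Th) : Prop where
  pair : IsMaxPair A B
  noLoc : NoLoc A
  simple : IsSimpleGroup L
  nonab : ¬ ∀ a b : L, a * b = b * a
  le : L ≤ B
  norm : A ≤ normalizer (L : Set Th)
  cent : ∀ x ∈ A, (∀ y ∈ L, x * y = y * x) → x = 1

/-- `p`-local subgroups, `p ≥ 5` -/
def BoxP : Prop := Thr → ∀ A B : Subgroup Th, IsMaxPair A B → ∀ p : ℕ, p.Prime → 5 ≤ p → ¬ InLoc p A

/-- 2-local subgroups -/
def Box2 : Prop := Thr → ∀ A B : Subgroup Th, IsMaxPair A B → ¬ InLoc 2 A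

/-- 3-local subgroups -/
def Box3 : Prop := Thr → ∀ A B : Subgroup Th, IsMaxPair A B → (∀ p : ℕ, p.Prime → p ≠ 3 → ¬ InLoc p A) → ¬ InLoc 3 A

/-- reduction to the almost simple situation -/
def BoxRed : Prop := CFSG.{0} → Thr → ∀ A B : Subgroup Th, IsMaxPair A B → NoLoc A → ∃ L, AS A B L

/-- the socle has order `n` -/
def Row (n : ℕ) : Prop := CFSG.{0} → Thr → ∀ A B L : Subgroup Th, AS A B L → Nat.card L ≠ n

/-- the almost simple groups with socle other than `U3(8)`, `3D4(2)`, `U4(3)`, `G2(3)` -/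
def BoxNL : Prop := CFSG.{0} → Thr → ∀ A B L : Subgroup Th, AS A B L →
  Nat.card L = 5515776 ∨ Nat.card L = 211341312 ∨ Nat.card L = 3265920 ∨ Nat.card L = 4245696

/-- **Assembly.** -/
theorem negTh_of (hT : Thr) (bP : BoxP) (b2 : Box2) (b3 : Box3) (bR : BoxRed) (bN : BoxNL)
    (u38 : Row 5515776) (d4 : Row 211341312) (u43 : Row 3265920) (g23 : Row 4245696) (hC : CFSG.{0}) :
    ¬ Pair Cfsg.Spor.Th := by
  haveI : Finite Th := Nat.finite_of_card_ne_zero (by rw [Cfsg.Agent.Th.Final.card_Th]; norm_num)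
  rintro ⟨A, B₀, h₀⟩
  obtain ⟨B, -, h⟩ := h₀.exists_max
  have h3 : ∀ p : ℕ, p.Prime → p ≠ 3 → ¬ InLoc p A := by
    intro p hp hp3
    by_cases hp2 : p = 2
    · subst hp2; exact b2 hT A B h
    · refine bP hT A B h p hp ?_
      have := hp.two_le
      rcases (show p = 4 ∨ 5 ≤ p by omega) with rfl | h5
      · exact absurd hp (by norm_num)
      · exact h5
  have hN : NoLoc A := by
    intro p hp
    by_cases hp3 : p = 3
    · subst hp3; exact b3 hT A B h h3
    · exact h3 p hp hp3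
  obtain ⟨L, hL⟩ := bR hC hT A B h hN
  rcases bN hC hT A B L hL with e | e | e | e
  · exact u38 hC hT A B L hL e
  · exact d4 hC hT A B L hL e
  · exact u43 hC hT A B L hL e
  · exact g23 hC hT A B L hL e

end Cfsg.Agent.SP.NTh
end

-- part: SP/NTh/CentB
section
set_option linter.all false
open scoped Cfsg.Agent.FastGrp

-- part: SP/NTh/CentA
section
/-! # S5755, row `Th`: the 2-parts of the centralisers of the elements of order three (helper23) -/

set_option autoImplicit false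

namespace Cfsg.Agent.SP.NTh

open Subgroup Cfsg.Agent.SP Cfsg.Agent.Th.Word Cfsg.Agent.Th.Gen248 Cfsg.Agent.Th.Hom248 Cfsg.Agent.Th.IndexUpper
open Cfsg.Agent.Th.Base Cfsg.Agent.Th.RelWords Cfsg.Agent.Th.PermTab
open Cfsg.Agent.Th.CStruct Cfsg.Agent.Th.NineAct
open Cfsg.Agent.KFacts.Th.Mask Cfsg.Agent.KFacts.Th.Struct
open Cfsg.Agent.CpAutTh.Data Cfsg.Agent.CpAutTh.Local Cfsg.Agent.BpSpor.ThCent

theorem finTh : Finite Th := Nat.finite_of_card_ne_zero (by rw [Cfsg.Agent.Th.Final.card_Th]; norm_num)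

theorem cardTh : Nat.card Th = 90745943887872000 := Cfsg.Agent.Th.Final.card_Th

theorem ctx : Ctx gTh := Cfsg.Agent.KFacts.Th.Main.ctx

section generic

variable {X : Type*} [Group X]

/-- `x` commutes with a four-group -/
def Four (x : X) : Prop :=
  ∃ u v : X, orderOf u = 2 ∧ orderOf v = 2 ∧ u ≠ v ∧ u * v = v * u ∧ u * x = x * u ∧ v * x = x * v

theorem Four.conj {x : X} (h : Four x) (g : X) : Four (g * x * g⁻¹) := by
  obtain ⟨u, v, hu, hv, huv, h1, h2, h3⟩ := h
  refine ⟨g * u * g⁻¹, g * v * g⁻¹, ?_, ?_, ?_, ?_, ?_, ?_⟩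
  · have := orderOf_conj' g⁻¹ u
    rw [inv_inv] at this; rw [this, hu]
  · have := orderOf_conj' g⁻¹ v
    rw [inv_inv] at this; rw [this, hv]
  · intro e; exact huv (by simpa only [_root_.mul_left_inj, _root_.mul_right_inj] using e)
  · calc g * u * g⁻¹ * (g * v * g⁻¹) = g * (u * v) * g⁻¹ := by group
      _ = _ := by rw [h1]; group
  · calc g * u * g⁻¹ * (g * x * g⁻¹) = g * (u * x) * g⁻¹ := by group
      _ = _ := by rw [h2]; group
  · calc g * v * g⁻¹ * (g * x * g⁻¹) = g * (v * x) * g⁻¹ := by group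
      _ = _ := by rw [h3]; group

theorem Four.of_isConj {x y : X} (h : Four x) (e : IsConj x y) : Four y := by
  obtain ⟨g, rfl⟩ := isConj_iff.1 e
  exact h.conj g

theorem Four.pow {x : X} (h : Four x) (n : ℕ) : Four (x ^ n) := by
  obtain ⟨u, v, hu, hv, huv, h1, h2, h3⟩ := h
  exact ⟨u, v, hu, hv, huv, h1, (Commute.pow_right h2 n).eq, (Commute.pow_right h3 n).eq⟩

theorem Four.inv {x : X} (h : Four x) : Four x⁻¹ := by
  obtain ⟨u, v, hu, hv, huv, h1, h2, h3⟩ := h
  exact ⟨u, v, hu, hv, huv, h1, (Commute.inv_right h2).eq, (Commute.inv_right h3).eq⟩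

theorem card_cent_isConj {x y : X} (e : IsConj x y) :
    Nat.card (centralizer ({x} : Set X)) = Nat.card (centralizer ({y} : Set X)) := by
  obtain ⟨g, rfl⟩ := isConj_iff.1 e
  have := card_centralizer_conj g⁻¹ x
  rw [inv_inv] at this
  exact this.symm

variable [Finite X]

/-- unique involution: the 2-part -/
theorem two_part_uniq {z : X} (hz : orderOf z = 2) (hu : ∀ u : X, orderOf u = 2 → u * z = z * u → u = z) {k : ℕ}
    (hk : 2 ^ k ∣ Nat.card X) : 2 ^ k ∣ Nat.card (centralizer ({z} : Set X)) := by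
  haveI : Fact (Nat.Prime 2) := ⟨Nat.prime_two⟩
  obtain ⟨P, -, hP⟩ := Cfsg.Agent.H555.Hall.exists_sylow_iso hz (Cfsg.Agent.H555.Hall.iso_of_unique hz hu)
  exact (P.pow_dvd_card_of_pow_dvd_card hk).trans (card_dvd_of_le hP)

/-- unique involution: no four-group -/
theorem eq_of_uniq {z : X} (hz : orderOf z = 2) (hu : ∀ u : X, orderOf u = 2 → u * z = z * u → u = z) {u v : X}
    (h1 : orderOf u = 2) (h2 : orderOf v = 2) (h3 : u * v = v * u) : u = v := by
  haveI : Fact (Nat.Prime 2) := ⟨Nat.prime_two⟩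
  obtain ⟨P, -, hP⟩ := Cfsg.Agent.H555.Hall.exists_sylow_iso hz (Cfsg.Agent.H555.Hall.iso_of_unique hz hu)
  have hpu : IsPGroup 2 (zpowers u) := IsPGroup.of_card (n := 1) (by rw [Nat.card_zpowers, h1]; rfl)
  have hpv : IsPGroup 2 (zpowers v) := IsPGroup.of_card (n := 1) (by rw [Nat.card_zpowers, h2]; rfl)
  have hn : zpowers u ≤ normalizer ((zpowers v : Subgroup X) : Set X) := by
    rw [zpowers_le]
    refine centralizer_le_normalizer _ ?_
    rw [mem_centralizer_iff]
    rintro _ ⟨n, rfl⟩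
    exact ((Commute.zpow_right (show Commute u v from h3) n).eq).symm
  obtain ⟨R, hR⟩ := (hpu.to_sup_of_normal_right' hpv hn).exists_le_sylow
  obtain ⟨g, hg⟩ := MulAction.exists_smul_eq X R P
  have key : ∀ w, w ∈ (R : Subgroup X) → orderOf w = 2 → g * w * g⁻¹ = z := by
    intro w hw ho
    have hm : g * w * g⁻¹ ∈ (P : Subgroup X) := by
      rw [← hg, Sylow.coe_subgroup_smul]
      exact Subgroup.smul_mem_pointwise_smul w (MulAut.conj g) _ hw
    refine hu _ ?_ (mem_centralizer_singleton_iff.1 (hP hm))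
    have := orderOf_conj' g⁻¹ w
    rw [inv_inv] at this; rw [this, ho]
  have e1 := key u (hR (mem_sup_left (mem_zpowers u))) h1
  have e2 := key v (hR (mem_sup_right (mem_zpowers v))) h2
  simpa only [_root_.mul_left_inj, _root_.mul_right_inj] using e1.trans e2.symm

/-- a central involution of a Sylow 2-subgroup -/
theorem exists_central_inv {k : ℕ} (hk : 2 ^ (k + 1) ∣ Nat.card X) :
    ∃ u : X, orderOf u = 2 ∧ 2 ^ (k + 1) ∣ Nat.card (centralizer ({u} : Set X)) := by
  haveI : Fact (Nat.Prime 2) := ⟨Nat.prime_two⟩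
  obtain ⟨P⟩ : Nonempty (Sylow 2 X) := inferInstance
  have hP := P.pow_dvd_card_of_pow_dvd_card hk
  haveI : Nontrivial P := by
    rw [← Finite.one_lt_card_iff_nontrivial]
    exact lt_of_lt_of_le (Nat.one_lt_pow (by omega) (by norm_num)) (Nat.le_of_dvd Nat.card_pos hP)
  haveI := P.isPGroup'.center_nontrivial
  have hc : IsPGroup 2 (center P) := P.isPGroup'.to_subgroup _
  obtain ⟨n, hn0, hn⟩ := hc.nontrivial_iff_card.1 inferInstance
  obtain ⟨u, hu⟩ := exists_prime_orderOf_dvd_card' (G := center P) 2 (by rw [hn]; exact dvd_pow_self 2 hn0.ne')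
  refine ⟨((u : P) : X), by rw [Subgroup.orderOf_coe, Subgroup.orderOf_coe, hu], hP.trans (card_dvd_of_le ?_)⟩
  intro y hy
  rw [mem_centralizer_singleton_iff]
  exact congrArg Subtype.val (mem_center_iff.1 u.2 ⟨y, hy⟩)

end generic

section words

variable {f : sub gTh isC →* alternatingGroup (Fin 9)} (F : Epi gTh f)
include F

theorem ker_le {X : List ℕ} (hX : ∀ x ∈ X, isC x = true) {T : Tab} (hc : chk X T = true) {L : List ℕ}
    (hL : allB 512 (fun m => or (par m) (or (Bool.not (Nat.beq (Lf (Mt T) 9 m) m)) (L.any fun k => Nat.beq k m))) = true) :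
    Nat.card (psi ctx hX f).ker ≤ 2 * L.length := by
  haveI := finTh
  have hq : ∀ y : (psi ctx hX f).ker, (((y : centralizer ({sx ctx hX} : Set _)) : centralizer ({ev gTh X} : Set Th)) : Th)
      ∈ Q0 gTh := fun y => (mem_ker_psi ctx F hX).1 y.2
  choose μ hμL hμ using fun y : (psi ctx hX f).ker => comm_mask ctx hc hL (hq y)
    (mem_centralizer_singleton_iff.1 ((y : centralizer ({sx ctx hX} : Set _)) : centralizer ({ev gTh X} : Set Th)).2)
  refine (Cfsg.Agent.H777.Th3.card_le_fiber μ 2 (fun b => ?_) L.toFinset (fun y => List.mem_toFinset.2 (hμL y))).trans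
    (Nat.mul_le_mul_left 2 (List.toFinset_card_le L))
  by_cases hne : Nonempty {a // μ a = b}
  · obtain ⟨x0⟩ := hne
    classical
    have : Nat.card {a // μ a = b} ≤ Nat.card Bool := by
      refine Nat.card_le_card_of_injective (fun y => decide (y = x0)) fun y y' e => ?_
      by_cases h1 : y = x0
      · have : y' = x0 := by simpa [h1] using e
        rw [h1, this]
      · have h2 : y' ≠ x0 := by simpa [h1] using e
        have b0 := hμ x0.1
        have b1 := hμ y.1
        have b2 := hμ y'.1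
        rw [x0.2] at b0
        rw [y.2] at b1
        rw [y'.2] at b2
        have a1 := eq_of_mask ctx.data ctx.cardQ (hq x0.1) (hq y.1) b0 b1
        have a2 := eq_of_mask ctx.data ctx.cardQ (hq x0.1) (hq y'.1) b0 b2
        rcases a1 with a1 | a1
        · exact absurd (Subtype.ext (Subtype.ext (Subtype.ext (Subtype.ext a1)))) h1
        rcases a2 with a2 | a2
        · exact absurd (Subtype.ext (Subtype.ext (Subtype.ext (Subtype.ext a2)))) h2
        exact Subtype.ext (Subtype.ext (Subtype.ext (Subtype.ext (a1.trans a2.symm))))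
    simpa only [_root_.ge_iff_le, _root_.Nat.card_eq_fintype_card, _root_.Fintype.card_bool] using this
  · rw [not_nonempty_iff] at hne
    simp only [_root_.Nat.card_of_isEmpty, _root_.zero_le]

theorem card_range {X : List ℕ} (hX : ∀ x ∈ X, isC x = true)
    (ho : orderOf (⟨ev gTh X, ev_mem_sub hX⟩ : sub gTh isC) = 3) {c : Equiv.Perm (Fin 9)} (hc : Equiv.Perm.sign c = -1)
    (hcc : c * pm9 X = pm9 X * c) {m : ℕ}
    (hm : Nat.card (centralizer ({pm9 X} : Set (Equiv.Perm (Fin 9)))) = 2 * m) :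
    Nat.card (psi ctx hX f).range = m := by
  have e : (psi ctx hX f).range = centralizer ({f ⟨ev gTh X, ev_mem_sub hX⟩} : Set (alternatingGroup (Fin 9))) :=
    le_antisymm (range_le ctx F hX) (le_range ctx F hX Nat.prime_three (by norm_num) ho)
  have h2 := Cfsg.Agent.CpAutTh.ThreePerm.card_cent_alt (f ⟨ev gTh X, ev_mem_sub hX⟩) c hc (by rw [F.word X hX]; exact hcc)
  rw [F.word X hX, hm] at h2
  rw [e]; omega

theorem card_sx {X : List ℕ} (hX : ∀ x ∈ X, isC x = true) :
    ∃ n, 0 < n ∧ Nat.card (psi ctx hX f).ker = 2 ^ n ∧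
      Nat.card (centralizer ({sx ctx hX} : Set (centralizer ({ev gTh X} : Set Th)))) =
        2 ^ n * Nat.card (psi ctx hX f).range := by
  haveI := finTh
  haveI : Fact (Nat.Prime 2) := ⟨Nat.prime_two⟩
  obtain ⟨n, hn⟩ := IsPGroup.iff_card.1 (ker_two_psi ctx F hX)
  refine ⟨n, ?_, hn, by rw [← card_mul_index (psi ctx hX f).ker, index_ker, hn]⟩
  have h1 : (⟨sx ctx hX, mem_centralizer_singleton_iff.2 rfl⟩ : centralizer ({sx ctx hX} : Set _)) ∈
      (psi ctx hX f).ker := (mem_ker_psi ctx F hX).2 ctx.a_mem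
  have h2 := _root_.orderOf_dvd_natCard (⟨_, h1⟩ : (psi ctx hX f).ker)
  rw [Subgroup.orderOf_mk, Subgroup.orderOf_mk, order_sx ctx hX, hn] at h2
  rcases n with _ | n
  · norm_num at h2
  · omega

end words

theorem pow_le_cases {n m : ℕ} (h : 2 ^ n ≤ 2 ^ m) : n ≤ m := (Nat.pow_le_pow_iff_right (by norm_num)).1 h

/-- `|C(a) ∩ C(xC)| = 2160` -/
theorem card_sxC : Nat.card (centralizer ({sx ctx c3} : Set (centralizer ({ev gTh X3} : Set Th)))) = 2160 := by
  obtain ⟨f, F⟩ := _root_.Cfsg.Agent.CpAutTh.Local.exists_epi ctx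
  obtain ⟨n, h0, h1, h2⟩ := card_sx F c3
  have h3 := ker_le F c3 chk3 fix3
  rw [h1] at h3
  have h4 : n ≤ 1 := pow_le_cases (m := 1) h3
  rw [h2, card_range F c3 (o3 ctx F) s01 m3 (m := 1080) card3, show n = 1 by omega]
  norm_num

/-- `|C(a) ∩ C(xB)|` divides 648 -/
theorem card_sxB : Nat.card (centralizer ({sx ctx c333} : Set (centralizer ({ev gTh X333} : Set Th)))) ∣ 648 := by
  obtain ⟨f, F⟩ := _root_.Cfsg.Agent.CpAutTh.Local.exists_epi ctx
  obtain ⟨n, h0, h1, h2⟩ := card_sx F c333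
  have h3 := ker_le F c333 chk333 fix333
  rw [h1] at h3
  have h4 : n ≤ 3 := pow_le_cases (m := 3) h3
  rw [h2, card_range F c333 (o333 ctx F) sccc m333 (m := 81) card333]
  exact Nat.mul_dvd_mul_right (pow_dvd_pow 2 h4) 81

/-- `|C(a) ∩ C(xA)|` divides 1728 -/
theorem card_sxA : Nat.card (centralizer ({sx ctx c33} : Set (centralizer ({ev gTh X33} : Set Th)))) ∣ 1728 := by
  obtain ⟨f, F⟩ := _root_.Cfsg.Agent.CpAutTh.Local.exists_epi ctx
  obtain ⟨n, h0, h1, h2⟩ := card_sx F c33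
  have h3 := ker_le F c33 chk33 fix33
  rw [h1] at h3
  have h4 : n ≤ 5 := pow_le_cases (m := 5) h3
  rw [h2, card_range F c33 (o33 ctx F) s01 m33 (m := 54) card33]
  exact Nat.mul_dvd_mul_right (pow_dvd_pow 2 h4) 54

theorem oA : orderOf xA = 3 := by
  obtain ⟨f, F⟩ := _root_.Cfsg.Agent.CpAutTh.Local.exists_epi ctx
  have := o33 ctx F
  rwa [Subgroup.orderOf_mk] at this

theorem oB : orderOf xB = 3 := by
  obtain ⟨f, F⟩ := _root_.Cfsg.Agent.CpAutTh.Local.exists_epi ctx
  have := o333 ctx F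
  rwa [Subgroup.orderOf_mk] at this

theorem oC : orderOf xC = 3 := by
  obtain ⟨f, F⟩ := _root_.Cfsg.Agent.CpAutTh.Local.exists_epi ctx
  have := o3 ctx F
  rwa [Subgroup.orderOf_mk] at this

theorem uniqB : ∀ u : centralizer ({ev gTh X333} : Set Th), orderOf u = 2 → u * sx ctx c333 = sx ctx c333 * u →
    u = sx ctx c333 := by
  obtain ⟨f, F⟩ := _root_.Cfsg.Agent.CpAutTh.Local.exists_epi ctx
  rintro ⟨u, hu⟩ h1 h2
  apply Subtype.ext
  rw [Subgroup.orderOf_mk] at h1
  exact inv_triple ctx F h1 (congrArg Subtype.val h2) (mem_centralizer_singleton_iff.1 hu)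

theorem uniqC : ∀ u : centralizer ({ev gTh X3} : Set Th), orderOf u = 2 → u * sx ctx c3 = sx ctx c3 * u →
    u = sx ctx c3 := by
  obtain ⟨f, F⟩ := _root_.Cfsg.Agent.CpAutTh.Local.exists_epi ctx
  rintro ⟨u, hu⟩ h1 h2
  apply Subtype.ext
  rw [Subgroup.orderOf_mk] at h1
  exact inv_three ctx F h1 (congrArg Subtype.val h2) (mem_centralizer_singleton_iff.1 hu)

theorem uniq5 : ∀ u : centralizer ({ev gTh X5} : Set Th), orderOf u = 2 → u * sx ctx c5 = sx ctx c5 * u →
    u = sx ctx c5 := by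
  obtain ⟨f, F⟩ := _root_.Cfsg.Agent.CpAutTh.Local.exists_epi ctx
  rintro ⟨u, hu⟩ h1 h2
  apply Subtype.ext
  rw [Subgroup.orderOf_mk] at h1
  exact inv_five ctx F h1 (congrArg Subtype.val h2) (mem_centralizer_singleton_iff.1 hu)

theorem not_four_of {x : Th} {z : centralizer ({x} : Set Th)} (hz : orderOf z = 2)
    (hu : ∀ u : centralizer ({x} : Set Th), orderOf u = 2 → u * z = z * u → u = z) : ¬ Four x := by
  haveI := finTh
  rintro ⟨u, v, h1, h2, h3, h4, h5, h6⟩
  have := eq_of_uniq hz hu (u := ⟨u, mem_centralizer_singleton_iff.2 h5⟩) (v := ⟨v, mem_centralizer_singleton_iff.2 h6⟩)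
    (by rwa [Subgroup.orderOf_mk]) (by rwa [Subgroup.orderOf_mk]) (Subtype.ext h4)
  exact h3 (congrArg Subtype.val this)

theorem not_four_B : ¬ Four xB := not_four_of (order_sx ctx c333) uniqB

theorem not_four_C : ¬ Four xC := not_four_of (order_sx ctx c3) uniqC

/-- an element of order 5 commutes with no four-group -/
theorem not_four_five {y : Th} (hy : orderOf y = 5) : ¬ Four y := by
  obtain ⟨g, hg⟩ := Cfsg.Agent.H495.SprThRep.rep5 hy
  intro h
  exact not_four_of (order_sx ctx c5) uniq5 (hg ▸ h.conj g)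

theorem four_A : Four xA := by
  haveI : Fact (Nat.Prime 2) := ⟨Nat.prime_two⟩
  have D := ctx.data
  have hne : cc gTh 0 ≠ gTh 1 := by
    intro e
    have h1 := D.com 0 1 (by decide)
    rw [e, ← D.ac 1, ← mul_assoc, D.aa, one_mul] at h1
    exact D.a1 (by simpa using h1)
  have hne1 : cc gTh 0 ≠ 1 := by
    intro e
    have h1 := D.com 0 1 (by decide)
    rw [e, one_mul, mul_one] at h1
    exact D.a1 (by simpa using h1.symm)
  have hx : xA = gTh 8 := ev_singleton _ _
  refine ⟨gTh 1, cc gTh 0, orderOf_eq_prime (by rw [pow_two]; exact D.aa) D.a1,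
    orderOf_eq_prime (by rw [pow_two]; exact D.cc 0) hne1, hne.symm, D.ac 0, ?_, ?_⟩
  · exact (ctx.mem_C.1 (ev_mem_sub c33)).symm
  · have := ctx.cc_conj' (x := 8) (by simp) 0 0 (by decide)
    rw [hx]
    calc cc gTh 0 * gTh 8 = gTh 8 * ((gTh 8)⁻¹ * cc gTh 0 * gTh 8) := by group
      _ = _ := by rw [this]

theorem two_B : ¬ 16 ∣ Nat.card (centralizer ({xB} : Set Th)) := by
  haveI := finTh
  intro h
  have := (two_part_uniq (order_sx ctx c333) uniqB (k := 4) h).trans card_sxB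
  norm_num at this

theorem two_C : ¬ 32 ∣ Nat.card (centralizer ({xC} : Set Th)) := by
  haveI := finTh
  intro h
  have := two_part_uniq (order_sx ctx c3) uniqC (k := 5) h
  rw [card_sxC] at this
  norm_num at this

theorem dvd_C : 2160 ∣ Nat.card (centralizer ({xC} : Set Th)) := by
  rw [← card_sxC]; exact card_subgroup_dvd_card _

theorem two_A : ¬ 128 ∣ Nat.card (centralizer ({xA} : Set Th)) := by
  haveI := finTh
  intro h
  obtain ⟨u, hu, hd⟩ := exists_central_inv (X := centralizer ({xA} : Set Th)) (k := 6) h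
  obtain ⟨g, hg, e⟩ := Cfsg.Agent.H94.NBC.th_conj ctx Cfsg.Agent.H495.SprThRep.hone (u : Th) u.2
    (by rw [Subgroup.orderOf_coe, hu])
  have hc : IsConj u (sx ctx c33) := isConj_iff.2 ⟨⟨g, hg⟩, Subtype.ext e⟩
  rw [card_cent_isConj hc] at hd
  have := hd.trans card_sxA
  norm_num at this

theorem not_conj_AB : ¬ IsConj xA xB := fun h => not_four_B (four_A.of_isConj h)

theorem not_conj_AC : ¬ IsConj xA xC := fun h => not_four_C (four_A.of_isConj h)

theorem not_conj_BC : ¬ IsConj xB xC := fun h => two_B (by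
  rw [card_cent_isConj h]; exact Dvd.dvd.trans (by norm_num) dvd_C)

/-- the three classes -/
theorem cls3 {x : Th} (hx : orderOf x = 3) : IsConj xA x ∨ IsConj xB x ∨ IsConj xC x := by
  obtain ⟨g, h | h | h⟩ := Cfsg.Agent.H495.SprThRep.rep3 hx
  · exact Or.inr (Or.inr (isConj_iff.2 ⟨g, h⟩).symm)
  · exact Or.inl (isConj_iff.2 ⟨g, h⟩).symm
  · exact Or.inr (Or.inl (isConj_iff.2 ⟨g, h⟩).symm)

theorem isConj_order {x y : Th} (h : IsConj x y) : orderOf y = orderOf x := by
  obtain ⟨g, rfl⟩ := isConj_iff.1 h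
  have := orderOf_conj' g⁻¹ x
  rwa [inv_inv] at this

/-- 3A: order three and a four-group -/
theorem isA_iff {x : Th} : IsConj xA x ↔ orderOf x = 3 ∧ Four x := by
  refine ⟨fun h => ⟨(isConj_order h).trans oA, four_A.of_isConj h⟩, fun ⟨h1, h2⟩ => ?_⟩
  rcases cls3 h1 with h | h | h
  · exact h
  · exact absurd (h2.of_isConj h.symm) not_four_B
  · exact absurd (h2.of_isConj h.symm) not_four_C

theorem card_cent_inv (x : Th) : Nat.card (centralizer ({x⁻¹} : Set Th)) = Nat.card (centralizer ({x} : Set Th)) := by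
  congr 2
  ext y
  rw [mem_centralizer_singleton_iff, mem_centralizer_singleton_iff]
  exact ⟨fun h => (Commute.inv_right_iff.1 h).eq, fun h => (Commute.inv_right h).eq⟩

theorem isA_inv {x : Th} (h : IsConj xA x) : IsConj xA x⁻¹ :=
  isA_iff.2 ⟨by rw [orderOf_inv, (isA_iff.1 h).1], (isA_iff.1 h).2.inv⟩

theorem isB_inv {x : Th} (h : IsConj xB x) : IsConj xB x⁻¹ := by
  rcases cls3 (x := x⁻¹) (by rw [orderOf_inv, isConj_order h, oB]) with e | e | e
  · exact absurd (h.trans (by simpa only [_root_.isConj_iff, _root_.inv_inv] using (isA_inv e).symm)).symm not_conj_AB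
  · exact e
  · exfalso
    apply two_B
    rw [card_cent_isConj h, ← card_cent_inv, ← card_cent_isConj e]
    exact Dvd.dvd.trans (by norm_num) dvd_C

theorem isC_inv {x : Th} (h : IsConj xC x) : IsConj xC x⁻¹ := by
  rcases cls3 (x := x⁻¹) (by rw [orderOf_inv, isConj_order h, oC]) with e | e | e
  · exact absurd (h.trans (by simpa only [_root_.isConj_iff, _root_.inv_inv] using (isA_inv e).symm)).symm not_conj_AC
  · exact absurd (h.trans (by simpa only [_root_.isConj_iff, _root_.inv_inv] using (isB_inv e).symm)).symm not_conj_BC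
  · exact e

end Cfsg.Agent.SP.NTh
end

-- part: SP/NTh/CentB
section
/-! # S5755, row `Th`: the orders of the centralisers of the 3-elements (helper23) -/

set_option autoImplicit false

namespace Cfsg.Agent.SP.NTh

open Subgroup Cfsg.Agent.SP Cfsg.Agent.Th.Word Cfsg.Agent.Th.Gen248 Cfsg.Agent.Th.Hom248 Cfsg.Agent.Th.IndexUpper
open Cfsg.Agent.Th.CStruct
open Cfsg.Agent.KFacts.Th.Struct
open Cfsg.Agent.CpAutTh.Data Cfsg.Agent.CpAutTh.Local Cfsg.Agent.BpSpor.ThCent
open Cfsg.Agent.H777.Th3 Cfsg.Agent.H777.Th3.Dat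

/-- A 3-element and a Sylow 3-subgroup of its centraliser, moved into `thDat.Sg`. -/
theorem exists_sylow_Sg {x : Th} {n : ℕ} (hx : x ^ 3 ^ n = 1) {k : ℕ} (hk : 3 ^ k ∣ Nat.card (centralizer ({x} : Set Th))) :
    ∃ (g : Th) (R : Subgroup Th), R ≤ thDat.Sg ∧ g * x * g⁻¹ ∈ R ∧ (∀ r ∈ R, g * x * g⁻¹ * r = r * (g * x * g⁻¹)) ∧
      3 ^ k ≤ Nat.card R := by
  haveI := finTh
  haveI : Fact (Nat.Prime 3) := ⟨Nat.prime_three⟩
  have hxC : x ∈ centralizer ({x} : Set Th) := mem_centralizer_singleton_iff.2 rfl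
  have hp : IsPGroup 3 (zpowers (⟨x, hxC⟩ : centralizer ({x} : Set Th))) := by
    obtain ⟨m, -, hm⟩ := (Nat.dvd_prime_pow Nat.prime_three).1 (orderOf_dvd_of_pow_eq_one hx)
    exact IsPGroup.of_card (n := m) (by rw [Nat.card_zpowers, Subgroup.orderOf_mk, hm])
  obtain ⟨P, hP⟩ := hp.exists_le_sylow
  obtain ⟨g, hg⟩ := Cfsg.Agent.H502.TO.exists_conj (R := (P : Subgroup _).map (centralizer ({x} : Set Th)).subtype)
    (P.isPGroup'.map _)
  refine ⟨g, ((P : Subgroup _).map (centralizer ({x} : Set Th)).subtype).map (MulAut.conj g).toMonoidHom, ?_, ?_, ?_, ?_⟩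
  · rintro _ ⟨r, hr, rfl⟩; exact hg r hr
  · exact ⟨x, ⟨⟨x, hxC⟩, hP (mem_zpowers _), rfl⟩, rfl⟩
  · rintro _ ⟨_, ⟨r, -, rfl⟩, rfl⟩
    have := mem_centralizer_singleton_iff.1 r.2
    change g * x * g⁻¹ * (g * r * g⁻¹) = g * r * g⁻¹ * (g * x * g⁻¹)
    calc g * x * g⁻¹ * (g * r * g⁻¹) = g * (x * r) * g⁻¹ := by group
      _ = _ := by rw [← this]; group
  · rw [card_map_of_injective (MulAut.conj g).injective, card_map_of_injective (subtype_injective _)]
    exact Nat.le_of_dvd Nat.card_pos (P.pow_dvd_card_of_pow_dvd_card hk)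

/-- Outside `U` the centralisers in `Sg` have order at most 729. -/
theorem card_le_729 {x : Th} (hx : x ∈ thDat.Sg) (hxU : x ∉ thDat.U) {R : Subgroup Th} (hR : R ≤ thDat.Sg)
    (hc : ∀ r ∈ R, x * r = r * x) : Nat.card R ≤ 729 := by
  have h1 := th_u1_ne
  have h3 := card_le_three h1 hR
  by_cases hT : x ∈ thDat.Tg
  · have := Cfsg.Agent.H502.TO.card_inf_Tg h1 hT hxU (R := R ⊓ thDat.Tg) inf_le_right (fun r hr => hc r hr.1)
    exact h3.trans (by omega)
  · have h4 := card_le_of_Tg h1 (A := R ⊓ thDat.Tg) inf_le_right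
      (Finset.univ.filter fun q : Q4 => q.1 = 0 ∧ q.2.1 = 0) (fun a ha => by
        refine Finset.mem_filter.2 ⟨Finset.mem_univ _, qT_of_comm h1 hx hT ha.2 ?_⟩
        rw [hc a ha.1]; simpa using thDat.U.one_mem)
    have h5 := card_fix_outside h1 hx hT (A := R ⊓ thDat.Tg) (fun a ha _ => hc a ha.1)
    have h6 : (Finset.univ.filter fun q : Q4 => q.1 = 0 ∧ q.2.1 = 0).card = 9 := by decide +kernel
    rw [h6] at h4
    exact h3.trans (by omega)

theorem isB_u1 : IsConj xB thDat.u1 := by rw [Cfsg.Agent.H502.TO.u1_eq]; exact IsConj.refl _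

/-- `3 ^ 8` divides only the centraliser orders of 3B -/
theorem isB_of_large {x : Th} (hx1 : x ≠ 1) {n : ℕ} (hx : x ^ 3 ^ n = 1)
    (hk : 3 ^ 8 ∣ Nat.card (centralizer ({x} : Set Th))) : IsConj xB x := by
  obtain ⟨g, R, hR, hxR, hc, hcard⟩ := exists_sylow_Sg hx hk
  obtain ⟨e, he, h⟩ := Cfsg.Agent.H502.TO.form_of_large th_u1_ne (hR hxR) hR hc hcard
  have he0 : e ≠ 0 := by
    rintro rfl
    rw [uu_zero] at he
    exact hx1 (by simpa only [_root_.conj_eq_one_iff] using he)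
  have hc' : IsConj (thDat.uu e) x := by rw [← he]; exact (isConj_iff.2 ⟨g, rfl⟩).symm
  rcases Cfsg.Agent.H502.TO.isConj_u1 he0 h with h | h
  · exact (isB_u1.trans h).trans hc'
  · exact ((isB_inv isB_u1).trans h).trans hc'

theorem three_A : ¬ 3 ^ 8 ∣ Nat.card (centralizer ({xA} : Set Th)) := fun h =>
  not_conj_AB (isB_of_large (n := 1) (fun e => by have := oA; rw [e, orderOf_one] at this; omega)
    (by rw [pow_one, ← oA, pow_orderOf_eq_one]) h).symm

theorem three_C : ¬ 3 ^ 8 ∣ Nat.card (centralizer ({xC} : Set Th)) := fun h =>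
  not_conj_BC (isB_of_large (n := 1) (fun e => by have := oC; rw [e, orderOf_one] at this; omega)
    (by rw [pow_one, ← oC, pow_orderOf_eq_one]) h)

/-- a central Sylow subgroup and a trivial core -/
theorem eq_one_of_core {K : Type*} [Group K] [Finite K] {p k : ℕ} (hp : p.Prime) {y : K} {S P : Subgroup K} (hPS : P ≤ S)
    (hP : Nat.card P = p ^ k) (hk : ¬ p ^ (k + 1) ∣ Nat.card S)
    (hc : ∀ s ∈ S, s ∈ normalizer (P : Set K) → ∀ x ∈ P, x * s = s * x) (hSy : ∀ s ∈ S, s * y = y * s)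
    (hSn : ∀ g, g * y = y * g → ∀ s ∈ S, g * s * g⁻¹ ∈ S)
    (core : ∀ W : Subgroup K, (∀ w ∈ W, w * y = y * w) → (∀ g, g * y = y * g → ∀ w ∈ W, g * w * g⁻¹ ∈ W) →
      ¬ p ∣ Nat.card W → W = ⊥) {x : K} (hx : x ∈ S) (ho : ¬ p ∣ orderOf x) : x = 1 := by
  obtain ⟨W, hWS, hW, hmem⟩ := NegS.burnside hp hPS hP hk hc
  have hb := core W (fun w hw => hSy w (hWS hw)) (fun g hg w hw => by
    have h1 := hSn g hg w (hWS hw)
    refine (hmem _ h1).2 ?_
    have := orderOf_conj' g⁻¹ w
    rw [inv_inv] at this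
    rw [this]; exact (hmem w (hWS hw)).1 hw) (fun h => hk (by
      rw [← hW, pow_succ']; exact Nat.mul_dvd_mul_right h _))
  have := (hmem x hx).2 ho
  rwa [hb, mem_bot] at this

theorem exists_sub {p k : ℕ} (hp : p.Prime) {H : Subgroup Th} (h : p ^ k ∣ Nat.card H) :
    ∃ F : Subgroup Th, F ≤ H ∧ Nat.card F = p ^ k := by
  haveI := finTh
  haveI : Fact p.Prime := ⟨hp⟩
  obtain ⟨F, hF⟩ := Sylow.exists_subgroup_card_pow_prime (G := H) p h
  exact ⟨F.map H.subtype, map_subtype_le _, by rw [card_map_of_injective (subtype_injective _), hF]⟩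

theorem comm_of_sq {p : ℕ} (hp : p.Prime) {F : Subgroup Th} (hF : Nat.card F = p ^ 2) {u v : Th} (hu : u ∈ F)
    (hv : v ∈ F) : u * v = v * u := by
  haveI : Fact p.Prime := ⟨hp⟩
  have := (IsPGroup.commGroupOfCardEqPrimeSq hF).mul_comm ⟨u, hu⟩ ⟨v, hv⟩
  exact congrArg Subtype.val this

/-- no element of order 3 commutes with a subgroup of order 49 -/
theorem not_49 {x : Th} (hx : orderOf x = 3) : ¬ 49 ∣ Nat.card (centralizer ({x} : Set Th)) := by
  haveI := finTh
  intro h
  have D := Cfsg.Agent.H49.ThSeven.dat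
  have h7 : Nat.Prime 7 := by norm_num
  obtain ⟨F, hFx, hF⟩ := exists_sub (k := 2) h7 h
  obtain ⟨y, hyF, hy⟩ := Cfsg.Agent.H502.TO.exists_of_dvd h7 (H := F) (by rw [hF]; norm_num)
  have hC := Cfsg.Agent.H871.Th7.card7 y hy
  have hFy : F ≤ centralizer ({y} : Set Th) := fun u hu => mem_centralizer_singleton_iff.2 (comm_of_sq h7 hF hu hyF)
  have hx1 : x ≠ 1 := fun e => by rw [e, orderOf_one] at hx; omega
  have hxF : x ∈ centralizer (F : Set Th) := fun u hu => mem_centralizer_singleton_iff.1 (hFx hu)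
  have hFF : F ≤ centralizer (F : Set Th) := fun u hu v hv => comm_of_sq h7 hF hv hu
  have hCy : centralizer (F : Set Th) ≤ centralizer ({y} : Set Th) := centralizer_le (by simpa using hyF)
  obtain ⟨n, hn1, hn⟩ := NegS.sylow_count h7 hFy hF (by rw [hC]; norm_num)
  rw [hC] at hn
  have hd : 147 ∣ Nat.card (centralizer (F : Set Th)) := by
    have a1 : 49 ∣ Nat.card (centralizer (F : Set Th)) := by have := card_dvd_of_le hFF; rwa [hF] at this
    have a2 : 3 ∣ Nat.card (centralizer (F : Set Th)) := by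
      have := _root_.orderOf_dvd_natCard (⟨x, hxF⟩ : centralizer (F : Set Th))
      rwa [Subgroup.orderOf_mk, hx] at this
    exact Nat.Coprime.mul_dvd_of_dvd_of_dvd (by norm_num : Nat.Coprime 49 3) a1 a2
  have hle : centralizer (F : Set Th) ≤ centralizer ({y} : Set Th) ⊓ normalizer (F : Set Th) :=
    le_inf hCy (centralizer_le_normalizer _)
  obtain ⟨c, hc⟩ := hd.trans (card_dvd_of_le hle)
  have hcn : c * n = 8 := by rw [hc] at hn; linarith only [hn]
  have hn8 : n ∣ 8 := Dvd.intro_left c hcn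
  have hn' := Nat.le_of_dvd (by norm_num) hn8
  have core := fun W a b c => D.core' hy (W := W) a b c
  rcases (show n = 1 ∨ n = 8 by omega) with rfl | rfl
  · have htop : centralizer ({y} : Set Th) ≤ normalizer (F : Set Th) := by
      have : centralizer ({y} : Set Th) ⊓ normalizer (F : Set Th) = centralizer ({y} : Set Th) :=
        eq_of_le_of_card_ge inf_le_left (by rw [hC]; omega)
      exact inf_eq_left.1 this
    refine hx1 (eq_one_of_core h7 (y := y) hFF hF (fun h => ?_) (fun s hs _ u hu => hs u hu)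
      (fun s hs => mem_centralizer_singleton_iff.1 (hCy hs)) (fun g hg s hs u hu => ?_) core hxF (by rw [hx]; norm_num))
    · have := h.trans (card_dvd_of_le hCy); rw [hC] at this; norm_num at this
    · have h1 := NegS.conj_mem_of_le' htop (mem_centralizer_singleton_iff.2 hg) hu
      have h2 := hs _ h1
      calc u * (g * s * g⁻¹) = g * (g⁻¹ * u * g * s) * g⁻¹ := by group
        _ = _ := by rw [h2]; group
  · have heq : centralizer (F : Set Th) = centralizer ({y} : Set Th) ⊓ normalizer (F : Set Th) :=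
      eq_of_le_of_card_ge hle (by have := Nat.le_of_dvd Nat.card_pos hd; omega)
    refine hx1 (eq_one_of_core h7 (y := y) hFy hF (by rw [hC]; norm_num) (fun s hs hsn u hu => ?_)
      (fun s hs => mem_centralizer_singleton_iff.1 hs) (fun g hg s hs => ?_) core (hCy hxF) (by rw [hx]; norm_num))
    · have : s ∈ centralizer (F : Set Th) := by rw [heq]; exact ⟨hs, hsn⟩
      exact this u hu
    · exact mul_mem (mul_mem (mem_centralizer_singleton_iff.2 hg) hs) (_root_.InvMemClass.inv_mem (mem_centralizer_singleton_iff.2 hg))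

/-- no element of order 3 commutes with a subgroup of order 25 -/
theorem not_25 {x : Th} (hx : orderOf x = 3) : ¬ 25 ∣ Nat.card (centralizer ({x} : Set Th)) := by
  obtain ⟨hfin, a, b, z, s, D⟩ := Cfsg.Agent.H49.ThFive.exists_dat
  intro h
  have h5 : Nat.Prime 5 := by norm_num
  haveI : Fact (Nat.Prime 5) := ⟨h5⟩
  obtain ⟨F, hFx, hF⟩ := exists_sub (k := 2) h5 h
  obtain ⟨y, hyF, hy⟩ := Cfsg.Agent.H502.TO.exists_of_dvd h5 (H := F) (by rw [hF]; norm_num)
  obtain ⟨g, hg⟩ := D.all hy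
  set P := Cfsg.Agent.H49.ThFive.PP a b z with hP
  have hC := D.card_C
  have hPC : P ≤ centralizer ({z} : Set Th) := fun u hu => mem_centralizer_singleton_iff.2 (D.PC hu)
  have hn : centralizer ({z} : Set Th) ≤ normalizer (P : Set Th) := by
    intro c hc
    refine mem_normalizer_fintype (fun u hu => D.norm (mem_centralizer_singleton_iff.1 hc) hu)
  -- 5-subgroups of `C(z)` lie in `P`
  have five : ∀ E : Subgroup Th, E ≤ centralizer ({z} : Set Th) → IsPGroup 5 E → E ≤ P := by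
    intro E hE hE5
    have h1 := hE5.to_sup_of_normal_right' D.isP (hE.trans hn)
    have h2 := D.le_of_five h1
    have : P = E ⊔ P := eq_of_le_of_card_ge le_sup_right (by rw [D.card_P]; exact h2)
    rw [this]; exact le_sup_left
  set x' := g * x * g⁻¹ with hx'
  have hox : orderOf x' = 3 := by
    have := orderOf_conj' g⁻¹ x
    rw [inv_inv] at this; rw [hx', this, hx]
  have hx1 : x' ≠ 1 := fun e => by rw [e, orderOf_one] at hox; omega
  have hF' : F.map (MulAut.conj g).toMonoidHom ≤ P ⊓ centralizer ({x'} : Set Th) := by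
    refine le_inf (five _ ?_ (IsPGroup.of_card (n := 2) (by rw [NegS.card_map_conj, hF]))) ?_
    · rintro _ ⟨u, hu, rfl⟩
      rw [← hg]
      exact Cfsg.Agent.H502.TO.mem_cent_conj (mem_centralizer_singleton_iff.2 (comm_of_sq h5 hF hu hyF))
    · rintro _ ⟨u, hu, rfl⟩
      exact Cfsg.Agent.H502.TO.mem_cent_conj (hFx hu)
  have hxz : x' ∈ centralizer ({z} : Set Th) := by
    rw [← hg]
    exact Cfsg.Agent.H502.TO.mem_cent_conj (mem_centralizer_singleton_iff.2
      (mem_centralizer_singleton_iff.1 (hFx hyF)).symm)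
  have hmod := NegS.card_cent_modEq (N := P) (q := 3) (k := 1) Nat.prime_three
    (by rw [pow_one, ← hox, pow_orderOf_eq_one]) (hn hxz)
  have hd1 := card_dvd_of_le hF'
  rw [NegS.card_map_conj, hF] at hd1
  have hd2 : Nat.card (P ⊓ centralizer ({x'} : Set Th) : Subgroup Th) ∣ 5 ^ 3 := by
    have := card_dvd_of_le (inf_le_left : P ⊓ centralizer ({x'} : Set Th) ≤ P)
    rwa [D.card_P] at this
  obtain ⟨j, hj, hj'⟩ := (Nat.dvd_prime_pow h5).1 hd2
  rw [D.card_P, hj'] at hmod
  rw [hj'] at hd1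
  have hj3 : j = 3 := by
    have := (Nat.pow_dvd_pow_iff_le_right (by norm_num)).1 hd1
    rcases (show j = 2 ∨ j = 3 by omega) with rfl | rfl
    · exact absurd hmod (by decide)
    · rfl
  have hPx : P ⊓ centralizer ({x'} : Set Th) = P := eq_of_le_of_card_ge inf_le_left (by rw [hj', hj3, D.card_P]; rfl)
  have hxP : x' ∈ centralizer (P : Set Th) := fun u hu =>
    mem_centralizer_singleton_iff.1 ((inf_eq_left.1 hPx) hu)
  have hCz : centralizer (P : Set Th) ≤ centralizer ({z} : Set Th) := centralizer_le (by simpa using D.zP)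
  obtain ⟨R⟩ : Nonempty (Sylow 5 (centralizer (P : Set Th))) := inferInstance
  obtain ⟨k, hk⟩ := IsPGroup.iff_card.1 R.isPGroup'
  have hRP : (R : Subgroup _).map (centralizer (P : Set Th)).subtype ≤ P :=
    five _ ((map_subtype_le _).trans hCz) (R.isPGroup'.map _)
  refine hx1 (eq_one_of_core h5 (y := z) (k := k) (map_subtype_le (R : Subgroup (centralizer (P : Set Th))))
    (by rw [card_map_of_injective (subtype_injective _), hk]) (fun h => ?_) (fun s hs _ u hu => hs u (hRP hu))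
    (fun s hs => mem_centralizer_singleton_iff.1 (hCz hs)) (fun c hc s hs u hu => ?_)
    (fun W a b c => D.core_z a b c) hxP (by rw [hox]; norm_num))
  · have := R.pow_dvd_card_of_pow_dvd_card h
    rw [hk] at this
    have := (Nat.pow_dvd_pow_iff_le_right (by norm_num)).1 this
    omega
  · have h1 := NegS.conj_mem_of_le' hn (mem_centralizer_singleton_iff.2 hc) hu
    have h2 := hs _ h1
    calc u * (c * s * c⁻¹) = c * (c⁻¹ * u * c * s) * c⁻¹ := by group
      _ = _ := by rw [h2]; group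

theorem c13 {x : Th} (hx : orderOf x = 13) : Nat.card (centralizer ({x} : Set Th)) = 39 :=
  Cfsg.Agent.H174.Ore.Th.cent_thirteen hx

theorem c7 {x : Th} (hx : orderOf x = 7) : Nat.card (centralizer ({x} : Set Th)) = 1176 :=
  Cfsg.Agent.H871.Th7.card7 x hx

theorem c5 {x : Th} (hx : orderOf x = 5) : Nat.card (centralizer ({x} : Set Th)) = 3000 :=
  Cfsg.Agent.H502.TO.card_five hx

theorem c19 {x : Th} (hx : orderOf x = 19) : Nat.card (centralizer ({x} : Set Th)) = 19 :=
  Cfsg.Agent.H653.ThE.card19 hx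

theorem c31 {x : Th} (hx : orderOf x = 31) : Nat.card (centralizer ({x} : Set Th)) = 31 :=
  Cfsg.Agent.H653.ThE.card31 hx

theorem c2 {x : Th} (hx : orderOf x = 2) : Nat.card (centralizer ({x} : Set Th)) = 92897280 :=
  Cfsg.Agent.MonsterX.ThOneClass.card_centralizer hx

/-- a prime `q` does not divide `|C(x)|` if `o(x)` does not divide the centraliser orders of the elements of order `q` -/
theorem not_dvd_of {q c : ℕ} (hq : q.Prime) (hc : ∀ z : Th, orderOf z = q → Nat.card (centralizer ({z} : Set Th)) = c)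
    {x : Th} (h : ¬ orderOf x ∣ c) : ¬ q ∣ Nat.card (centralizer ({x} : Set Th)) := by
  haveI := finTh
  intro hd
  obtain ⟨z, hz, h2⟩ := Cfsg.Agent.H502.TO.dvd_symm hq hd
  exact h (hc z hz ▸ h2)

theorem five_of {x : Th} (hx : orderOf x = 3) (h : 5 ∣ Nat.card (centralizer ({x} : Set Th))) : IsConj xC x := by
  haveI := finTh
  obtain ⟨y, hy, hy5⟩ := Cfsg.Agent.H502.TO.exists_of_dvd (by norm_num : Nat.Prime 5) h
  obtain ⟨g, hg⟩ := Cfsg.Agent.H491.PB.Th.three_of_five hx hy5 (mem_centralizer_singleton_iff.1 hy).symm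
  exact (isConj_iff.2 ⟨g, hg⟩).symm

/-- assembling a divisor of `|Th|` from its prime parts -/
theorem dvd_of_parts {n a b c d e f g : ℕ} (hn : n ∣ 90745943887872000) (h2 : ¬ 2 ^ (a + 1) ∣ n)
    (h3 : ¬ 3 ^ (b + 1) ∣ n) (h5 : ¬ 5 ^ (c + 1) ∣ n) (h7 : ¬ 7 ^ (d + 1) ∣ n) (h13 : ¬ 13 ^ (e + 1) ∣ n)
    (h19 : ¬ 19 ^ (f + 1) ∣ n) (h31 : ¬ 31 ^ (g + 1) ∣ n) :
    n ∣ 2 ^ a * 3 ^ b * 5 ^ c * 7 ^ d * 13 ^ e * 19 ^ f * 31 ^ g := by
  have L := @Cfsg.Agent.H502.TO.dvd_of_not_pow
  have s0 : n ∣ (3 ^ 10 * 5 ^ 3 * 7 ^ 2 * 13 * 19 * 31) * 2 ^ 15 := by simpa using hn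
  have s1 := L Nat.prime_two s0 h2
  have s2 := L (m := 2 ^ a * 5 ^ 3 * 7 ^ 2 * 13 * 19 * 31) (k := 10) Nat.prime_three (by convert s1 using 1; ring) h3
  have s3 := L (m := 2 ^ a * 3 ^ b * 7 ^ 2 * 13 * 19 * 31) (k := 3) Nat.prime_five (by convert s2 using 1; ring) h5
  have s4 := L (m := 2 ^ a * 3 ^ b * 5 ^ c * 13 * 19 * 31) (k := 2) (by norm_num : Nat.Prime 7)
    (by convert s3 using 1; ring) h7
  have s5 := L (m := 2 ^ a * 3 ^ b * 5 ^ c * 7 ^ d * 19 * 31) (k := 1) (by norm_num : Nat.Prime 13)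
    (by convert s4 using 1; ring) h13
  have s6 := L (m := 2 ^ a * 3 ^ b * 5 ^ c * 7 ^ d * 13 ^ e * 31) (k := 1) (by norm_num : Nat.Prime 19)
    (by convert s5 using 1; ring) h19
  exact L (m := 2 ^ a * 3 ^ b * 5 ^ c * 7 ^ d * 13 ^ e * 19 ^ f) (k := 1) (by norm_num : Nat.Prime 31)
    (by convert s6 using 1; ring) h31

theorem sub_dvd (H : Subgroup Th) : Nat.card H ∣ 90745943887872000 := by
  rw [← cardTh]; exact card_subgroup_dvd_card H

theorem not_pow_of {H : Subgroup Th} {m : ℕ} (h : ¬ m ∣ 90745943887872000) : ¬ m ∣ Nat.card H :=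
  fun e => h (e.trans (sub_dvd H))

theorem n19 {x : Th} (hx : orderOf x = 3) : ¬ 19 ^ (0 + 1) ∣ Nat.card (centralizer ({x} : Set Th)) :=
  not_dvd_of (by norm_num) (fun _ => c19) (by rw [hx]; norm_num)

theorem n31 {x : Th} (hx : orderOf x = 3) : ¬ 31 ^ (0 + 1) ∣ Nat.card (centralizer ({x} : Set Th)) :=
  not_dvd_of (by norm_num) (fun _ => c31) (by rw [hx]; norm_num)

theorem cA : Nat.card (centralizer ({xA} : Set Th)) ∣ 12737088 :=
  dvd_of_parts (a := 6) (b := 7) (c := 0) (d := 1) (e := 1) (f := 0) (g := 0) (sub_dvd _) two_A three_A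
    (fun h => not_conj_AC (five_of oA h).symm) (not_49 oA) (not_pow_of (by norm_num)) (n19 oA) (n31 oA)

theorem not_dvd_iso {x : Th} (hx : orderOf x = 3) {z : centralizer ({x} : Set Th)} (hz : orderOf z = 2)
    (hu : ∀ u : centralizer ({x} : Set Th), orderOf u = 2 → u * z = z * u → u = z)
    (h8 : 8 ∣ Nat.card (centralizer ({x} : Set Th))) {t : ℕ} (ht : t = 7 ∨ t = 13)
    (hC : ¬ t ∣ Nat.card (centralizer ({z} : Set (centralizer ({x} : Set Th))))) :
    ¬ t ∣ Nat.card (centralizer ({x} : Set Th)) := by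
  haveI := finTh
  obtain ⟨Q, h1, h2, h3⟩ := Cfsg.Agent.H555.Hall.exists_quat hz hu h8
  rcases ht with rfl | rfl
  · exact Cfsg.Agent.H555.Hall.not_dvd_card hz (Cfsg.Agent.H555.Hall.iso_of_unique hz hu) h1 h2 h3 (by norm_num) hC
      (not_49 hx) (by norm_num)
  · exact Cfsg.Agent.H555.Hall.not_dvd_card hz (Cfsg.Agent.H555.Hall.iso_of_unique hz hu) h1 h2 h3 (by norm_num) hC
      (not_pow_of (by norm_num)) (by norm_num)

theorem cC : Nat.card (centralizer ({xC} : Set Th)) ∣ 174960 := by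
  have h8 : 8 ∣ Nat.card (centralizer ({xC} : Set Th)) := Dvd.dvd.trans (by norm_num) dvd_C
  exact dvd_of_parts (a := 4) (b := 7) (c := 1) (d := 0) (e := 0) (f := 0) (g := 0) (sub_dvd _) two_C three_C
    (not_25 oC) (not_dvd_iso oC (order_sx ctx _root_.Cfsg.Agent.CpAutTh.Local.c3) uniqC h8 (Or.inl rfl) (by erw [card_sxC]; norm_num))
    (not_dvd_iso oC (order_sx ctx _root_.Cfsg.Agent.CpAutTh.Local.c3) uniqC h8 (Or.inr rfl) (by erw [card_sxC]; norm_num)) (n19 oC) (n31 oC)

theorem cB : Nat.card (centralizer ({xB} : Set Th)) ∣ 472392 := by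
  have h13 : ¬ 13 ∣ Nat.card (centralizer ({xB} : Set Th)) := Cfsg.Agent.H502.TO.not_dvd_u1 (Or.inl rfl)
  have h8 : 8 ∣ Nat.card (centralizer ({xB} : Set Th)) := Cfsg.Agent.H555.Hall.ThC.eight ctx
  exact dvd_of_parts (a := 3) (b := 10) (c := 0) (d := 0) (e := 0) (f := 0) (g := 0) (sub_dvd _) two_B
    (not_pow_of (by norm_num)) (fun h => not_conj_BC (five_of oB h).symm)
    (not_dvd_iso oB (order_sx ctx c333) uniqB h8 (Or.inl rfl) (fun h => by
      have := h.trans card_sxB; norm_num at this)) h13 (n19 oB) (n31 oB)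

end Cfsg.Agent.SP.NTh
end
end

-- part: SP/NTh/Base
section
set_option linter.all false
open scoped Cfsg.Agent.FastGrp

/-! # S5755, row `Th`: the thresholds `Thr` (helper23) -/

set_option autoImplicit false

namespace Cfsg.Agent.SP.NTh

open Subgroup Cfsg.Agent.SP Cfsg.Agent.Th.Word Cfsg.Agent.Th.Gen248 Cfsg.Agent.Th.Hom248 Cfsg.Agent.Th.IndexUpper
open Cfsg.Agent.Th.CStruct
open Cfsg.Agent.KFacts.Th.Struct
open Cfsg.Agent.CpAutTh.Data Cfsg.Agent.CpAutTh.Local
open Cfsg.Agent.H777.Th3 Cfsg.Agent.H777.Th3.Dat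

/-- Class counting, summed form. -/
theorem sum_count_le {T : Type*} [Group T] [Fintype T] {ι : Type*} [Fintype ι] (X : Set T) (f : T → ι)
    (hf : ∀ x ∈ X, ∀ t : T, t⁻¹ * x * t ∈ X → f (t⁻¹ * x * t) = f x) (n c : ι → ℕ)
    (hn : ∀ i, {x ∈ X | f x = i}.ncard ≤ n i)
    (hc : ∀ x ∈ X, Nat.card (centralizer ({x} : Set T)) ≤ c (f x)) :
    ∑ t : T, {x ∈ X | t⁻¹ * x * t ∈ X}.ncard ≤ ∑ i, n i ^ 2 * c i := by
  classical
  let Y : Finset T := Finset.univ.filter (· ∈ X)
  have e1 : ∑ t : T, {x ∈ X | t⁻¹ * x * t ∈ X}.ncard = ∑ t : T, (Y.filter fun x => t⁻¹ * x * t ∈ X).card := by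
    refine Finset.sum_congr rfl fun t _ => ?_
    rw [← Set.ncard_coe_finset]
    congr 1
    ext x; simp [Y]
  have e2 : ∑ t : T, (Y.filter fun x => t⁻¹ * x * t ∈ X).card =
      ∑ x ∈ Y, (Finset.univ.filter fun t : T => t⁻¹ * x * t ∈ X).card := by
    simp only [Finset.card_filter]
    exact Finset.sum_comm
  have e3 : ∀ x ∈ Y, (Finset.univ.filter fun t : T => t⁻¹ * x * t ∈ X).card ≤
      n (f x) * c (f x) := by
    intro x hx
    have hxX : x ∈ X := by simpa [Y] using hx
    let Z : Finset T := Y.filter fun y => f y = f x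
    have hZ : Z.card ≤ n (f x) := by
      refine le_trans (le_of_eq ?_) (hn (f x))
      rw [← Set.ncard_coe_finset]
      congr 1
      ext y; simp [Z, Y]
    calc (Finset.univ.filter fun t : T => t⁻¹ * x * t ∈ X).card
        ≤ (Z.biUnion fun y => Finset.univ.filter fun t : T => t⁻¹ * x * t = y).card := by
          refine Finset.card_le_card fun t ht => ?_
          have ht' : t⁻¹ * x * t ∈ X := by simpa using ht
          simp only [Finset.mem_biUnion, Finset.mem_filter, Finset.mem_univ, true_and, Z, Y]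
          exact ⟨_, ⟨ht', hf x hxX t ht'⟩, rfl⟩
      _ ≤ ∑ y ∈ Z, (Finset.univ.filter fun t : T => t⁻¹ * x * t = y).card :=
          Finset.card_biUnion_le
      _ ≤ ∑ _y ∈ Z, c (f x) := by
          refine Finset.sum_le_sum fun y _ => le_trans (le_of_eq ?_)
            ((card_conj_le x y).trans (hc x hxX))
          rw [Nat.card_eq_fintype_card, Fintype.card_subtype]
      _ = Z.card * c (f x) := by simp
      _ ≤ n (f x) * c (f x) := Nat.mul_le_mul_right _ hZ
  have e4 : ∑ x ∈ Y, n (f x) * c (f x) ≤ ∑ i, n i ^ 2 * c i := by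
    rw [← Finset.sum_fiberwise (s := Y) (g := f)]
    refine Finset.sum_le_sum fun i _ => ?_
    have : ∑ x ∈ Y with f x = i, n (f x) * c (f x) = (Y.filter fun x => f x = i).card * (n i * c i) := by
      rw [← smul_eq_mul, ← Finset.sum_const]
      refine Finset.sum_congr rfl fun x hx => by rw [(Finset.mem_filter.1 hx).2]
    rw [this, pow_two, mul_assoc]
    refine Nat.mul_le_mul_right _ (le_trans (le_of_eq ?_) (hn i))
    rw [← Set.ncard_coe_finset]
    congr 1
    ext y; simp [Y]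
  exact e1.trans_le (e2 ▸ (Finset.sum_le_sum e3).trans e4)

/-- the cube of a permutation of nine points of order nine has no fixed point -/
theorem cube_no_fix {π : Equiv.Perm (Fin 9)} (h9 : π ^ 9 = 1) (h3 : π ^ 3 ≠ 1) {w : Fin 9} (hw : (π ^ 3) w = w) :
    False := by
  obtain ⟨v, hv⟩ : ∃ v, (π ^ 3) v ≠ v := by
    by_contra h
    push Not at h
    exact h3 (Equiv.ext h)
  have hp : Function.IsPeriodicPt π 9 v := by
    change π^[9] v = v
    rw [← Equiv.Perm.coe_pow, h9]; rfl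
  have hd : Function.minimalPeriod π v ∣ 3 ^ 2 := hp.minimalPeriod_dvd
  obtain ⟨j, hj, hj'⟩ := (Nat.dvd_prime_pow Nat.prime_three).1 hd
  have hm : Function.minimalPeriod π v = 9 := by
    have hn : ¬ Function.minimalPeriod π v ∣ 3 := fun h => hv (by
      have := Function.isPeriodicPt_iff_minimalPeriod_dvd.2 h
      rw [Equiv.Perm.coe_pow]; exact this)
    rw [hj'] at hn ⊢
    interval_cases j
    · norm_num at hn
    · norm_num at hn
    · rfl
  have inj : Function.Injective fun i : Fin 9 => π^[i] v := fun i k e =>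
    Fin.ext (Function.iterate_injOn_Iio_minimalPeriod (f := π) (x := v) (by rw [hm]; exact i.2) (by rw [hm]; exact k.2) e)
  obtain ⟨i, hi⟩ := Finite.injective_iff_surjective.1 inj w
  apply hv
  have hi' : (π ^ (i : ℕ)) v = w := by rw [Equiv.Perm.coe_pow]; exact hi
  apply (π ^ (i : ℕ)).injective
  rw [hi', ← Equiv.Perm.mul_apply, ← pow_add, add_comm, pow_add, Equiv.Perm.mul_apply, hi', hw]

/-- the cube of an element of order 9 commuting with an involution is of class 3B -/
theorem cube_isB {x s : Th} (hx : orderOf x = 9) (hs : orderOf s = 2) (hc : s * x = x * s) : IsConj xB (x ^ 3) := by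
  obtain ⟨f, F⟩ := exists_epi ctx
  obtain ⟨g, hg⟩ := Cfsg.Agent.H495.SprThRep.hone s hs
  have hm : g * x * g⁻¹ ∈ sub gTh isC := by
    rw [ctx.mem_C, ← hg]
    calc g * x * g⁻¹ * (g * s * g⁻¹) = g * (x * s) * g⁻¹ := by group
      _ = _ := by rw [← hc]; group
  set y : sub gTh isC := ⟨g * x * g⁻¹, hm⟩ with hy
  have hoy : orderOf y = 9 := by
    rw [hy, Subgroup.orderOf_mk, isConj_order (isConj_iff.2 ⟨g, rfl⟩), hx]
  have ho3 : orderOf (y ^ 3) = 3 := by rw [orderOf_pow' _ (by norm_num), hoy]; rfl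
  have hπ3 := ord_f ctx F Nat.prime_three (by norm_num) ho3
  have h9 : ((f y : alternatingGroup (Fin 9)) : Equiv.Perm (Fin 9)) ^ 9 = 1 := by
    rw [← Subgroup.coe_pow, ← map_pow, orderOf_dvd_iff_pow_eq_one.1 (by rw [hoy]), map_one]; rfl
  have h3 : ((f y : alternatingGroup (Fin 9)) : Equiv.Perm (Fin 9)) ^ 3 ≠ 1 := by
    intro e
    rw [map_pow, Subgroup.coe_pow, e, orderOf_one] at hπ3
    omega
  have key : ∀ (X : List ℕ) (hX : ∀ x ∈ X, isC x = true) (k : sub gTh isC) (v : Fin 9), pm9 X v = v →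
      k * y ^ 3 * k⁻¹ = ⟨ev gTh X, ev_mem_sub hX⟩ → False := by
    intro X hX k v hv e
    have e2 := F.word X hX
    rw [← e, map_mul, map_mul, map_inv, map_pow] at e2
    refine cube_no_fix h9 h3 (w := ((f k : alternatingGroup (Fin 9)) : Equiv.Perm (Fin 9))⁻¹ v) ?_
    rw [← e2] at hv
    simp only [Subgroup.coe_mul, Subgroup.coe_inv, Subgroup.coe_pow, Equiv.Perm.mul_apply] at hv
    rw [Equiv.Perm.eq_inv_iff_eq]; exact hv
  obtain ⟨k, h | h | h⟩ := exists_rep_three ctx F ho3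
  · obtain ⟨v, hv⟩ : ∃ v, pm9 X3 v = v := by decide +kernel
    exact (key X3 c3 k v hv h).elim
  · obtain ⟨v, hv⟩ : ∃ v, pm9 X33 v = v := by decide +kernel
    exact (key X33 c33 k v hv h).elim
  · have e : (k : Th) * (g * x * g⁻¹) ^ 3 * (k : Th)⁻¹ = xB := congrArg Subtype.val h
    rw [conj_pow] at e
    exact (isConj_iff.2 ⟨(k : Th) * g, by rw [← e]; group⟩).symm

theorem cent_le_pow (x : Th) (n : ℕ) : centralizer ({x} : Set Th) ≤ centralizer ({x ^ n} : Set Th) := fun y hy =>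
  mem_centralizer_singleton_iff.2 (Commute.pow_right (mem_centralizer_singleton_iff.1 hy) n).eq

theorem c9 {x : Th} (hx : orderOf x = 9 ∨ orderOf x = 27) : Nat.card (centralizer ({x} : Set Th)) ∣ 5832 := by
  haveI := finTh
  have h9 : 9 ∣ orderOf x := by rcases hx with h | h <;> rw [h] <;> norm_num
  have nd : ∀ {c : ℕ}, ¬ 9 ∣ c → ¬ orderOf x ∣ c := fun h e => h (h9.trans e)
  refine dvd_of_parts (a := 3) (b := 6) (c := 0) (d := 0) (e := 0) (f := 0) (g := 0) (sub_dvd _) (fun h => ?_) (fun h => ?_)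
    (not_dvd_of (by norm_num) (fun _ => c5) (nd (by norm_num))) (not_dvd_of (by norm_num) (fun _ => c7) (nd (by norm_num)))
    (not_dvd_of (by norm_num) (fun _ => c13) (nd (by norm_num)))
    (not_dvd_of (by norm_num) (fun _ => c19) (nd (by norm_num)))
    (not_dvd_of (by norm_num) (fun _ => c31) (nd (by norm_num)))
  · obtain ⟨s, hs, hs2⟩ := Cfsg.Agent.H502.TO.exists_of_dvd Nat.prime_two (Dvd.dvd.trans (by norm_num) h)
    have hsx := mem_centralizer_singleton_iff.1 hs
    apply two_B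
    rcases hx with hx | hx
    · rw [card_cent_isConj (cube_isB hx hs2 hsx)]
      exact h.trans (card_dvd_of_le (cent_le_pow x 3))
    · have ho : orderOf (x ^ 3) = 9 := by rw [orderOf_pow' _ (by norm_num), hx]; rfl
      rw [card_cent_isConj (cube_isB ho hs2 (Commute.pow_right hsx 3).eq), ← pow_mul]
      exact h.trans (card_dvd_of_le (cent_le_pow x _))
  · have h27 : x ^ 3 ^ 3 = 1 := orderOf_dvd_iff_pow_eq_one.1 (by rcases hx with h | h <;> rw [h] <;> norm_num)
    obtain ⟨g, R, hR, hxR, hc, hcard⟩ := exists_sylow_Sg h27 h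
    have hU : g * x * g⁻¹ ∉ thDat.U := by
      intro hU
      obtain ⟨e, he⟩ := (mem_U _).1 hU
      have h3 := orderOf_dvd_of_pow_eq_one (thDat.uu_cube e)
      rw [← he, isConj_order (isConj_iff.2 ⟨g, rfl⟩)] at h3
      have := h9.trans h3
      norm_num at this
    have := card_le_729 (hR hxR) hU hR hc
    omega

/-- orders of 2-elements -/
theorem ord_two {x : Th} {k : ℕ} (hx : x ^ 2 ^ k = 1) (h1 : x ≠ 1) : orderOf x = 2 ∨ orderOf x = 4 ∨ orderOf x = 8 := by
  obtain ⟨j, -, hj⟩ := (Nat.dvd_prime_pow Nat.prime_two).1 (orderOf_dvd_of_pow_eq_one hx)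
  have h3 : ¬ 3 ∣ orderOf x := fun h => by
    rw [hj] at h
    have := Nat.prime_three.dvd_of_dvd_pow h
    norm_num at this
  have h := Cfsg.Agent.H653.ThE.ord x h3
  have hne : orderOf x ≠ 1 := fun e => h1 (orderOf_eq_one_iff.1 e)
  have hj5 : j < 5 := by
    by_contra hc
    have : 2 ^ 5 ≤ orderOf x := by rw [hj]; exact Nat.pow_le_pow_right (by norm_num) (by omega)
    simp only [Finset.mem_insert, Finset.mem_singleton] at h
    omega
  simp only [Finset.mem_insert, Finset.mem_singleton] at h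
  interval_cases j <;> omega

/-- orders of 3-elements -/
theorem ord_three {x : Th} {k : ℕ} (hx : x ^ 3 ^ k = 1) (h1 : x ≠ 1) : orderOf x = 3 ∨ orderOf x = 9 ∨ orderOf x = 27 := by
  obtain ⟨g, R, hR, hxR, -, -⟩ := exists_sylow_Sg (k := 0) hx (one_dvd _)
  have h27 := orderOf_dvd_of_pow_eq_one (pow27 th_u1_ne (hR hxR))
  rw [isConj_order (isConj_iff.2 ⟨g, rfl⟩)] at h27
  obtain ⟨j, hj3, hj⟩ := (Nat.dvd_prime_pow Nat.prime_three).1 (show orderOf x ∣ 3 ^ 3 from h27)
  have hne : orderOf x ≠ 1 := fun e => h1 (orderOf_eq_one_iff.1 e)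
  interval_cases j <;> omega

theorem c4 {x : Th} (hx : orderOf x = 4) : Nat.card (centralizer ({x} : Set Th)) ≤ 491520 := by
  rcases Cfsg.Agent.H653.ThE.conj4 hx with h | h
  · rw [Cfsg.Agent.H653.ThE.cent4A h]; norm_num
  · exact Nat.le_of_dvd (by norm_num) (Cfsg.Agent.H653.ThE.cent4B h).1

theorem c8 {x : Th} (hx : orderOf x = 8) : Nat.card (centralizer ({x} : Set Th)) ≤ 196608 := by
  rcases Cfsg.Agent.H653.ThE.conj8 hx with h | h
  · exact Nat.le_of_dvd (by norm_num) (Cfsg.Agent.H653.ThE.cent8A h).1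
  · exact (Nat.le_of_dvd (by norm_num) (Cfsg.Agent.H653.ThE.cent8B h).1).trans (by norm_num)

open Classical in
/-- the class of an element of order three -/
noncomputable def cl (x : Th) : Fin 3 := if IsConj xA x then 0 else if IsConj xB x then 1 else 2

theorem cl_conj (x t : Th) : cl (t⁻¹ * x * t) = cl x := by
  have e : IsConj x (t⁻¹ * x * t) := isConj_iff.2 ⟨t⁻¹, by simp⟩
  have h : ∀ y : Th, IsConj y (t⁻¹ * x * t) ↔ IsConj y x := fun y => ⟨fun h => h.trans e.symm, fun h => h.trans e⟩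
  unfold cl
  rw [propext (h xA), propext (h xB)]

theorem cl_spec {x : Th} (hx : orderOf x = 3) : IsConj (![xA, xB, xC] (cl x)) x := by
  unfold cl
  split_ifs with h1 h2
  · exact h1
  · exact h2
  · rcases cls3 hx with h | h | h
    · exact absurd h h1
    · exact absurd h h2
    · exact h

theorem cl_card {x : Th} (hx : orderOf x = 3) :
    Nat.card (centralizer ({x} : Set Th)) ≤ ![12737088, 472392, 174960] (cl x) := by
  have h := cl_spec hx
  rw [← card_cent_isConj h]
  generalize cl x = i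
  fin_cases i
  · exact Nat.le_of_dvd (by norm_num) cA
  · exact Nat.le_of_dvd (by norm_num) cB
  · exact Nat.le_of_dvd (by norm_num) cC

theorem thr_one {A B : Subgroup Th} (h : IsPair A B) {r c : ℕ} (hr : r.Prime) (hd : r ∣ B.relIndex A)
    (hc : ∀ x : Th, orderOf x = r → Nat.card (centralizer ({x} : Set Th)) = c) {m : ℕ}
    (hm : m ^ 2 * c < (r - 1) * 90745943887872000) : m + 1 ≤ nOrd A r := by
  haveI := finTh
  have := h.count_one hr hd (nOrd A r) c le_rfl (fun x _ hx => (hc x hx).le)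
  rw [cardTh] at this
  by_contra hlt
  have h1 : nOrd A r ^ 2 * c ≤ m ^ 2 * c := Nat.mul_le_mul_right _ (Nat.pow_le_pow_left (by omega) 2)
  omega

theorem thr_out2 {A B : Subgroup Th} (h : IsPair A B) (hd : 2 ∣ B.relIndex A) :
    90745943887872000 ≤ oOrd A B 2 ^ 2 * 92897280 + oOrd A B 4 ^ 2 * 491520 + oOrd A B 8 ^ 2 * 196608 := by
  haveI := finTh
  have ho : ∀ x ∈ outElems A B 2, orderOf x = 2 ∨ orderOf x = 4 ∨ orderOf x = 8 := fun x ⟨_, hB, k, hk⟩ =>
    ord_two hk (fun e => hB (e ▸ B.one_mem))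
  have := h.count_out Nat.prime_two hd (ι := Fin 3)
    (fun x => if orderOf x = 2 then 0 else if orderOf x = 4 then 1 else 2) (fun x _ t => by simp only [orderOf_conj'])
    ![oOrd A B 2, oOrd A B 4, oOrd A B 8] ![92897280, 491520, 196608] (fun i => ?_) (fun x hx => ?_)
  · rw [cardTh, Fin.sum_univ_three] at this
    simpa using this
  · have : ∀ i : Fin 3, {x ∈ outElems A B 2 | (if orderOf x = 2 then 0 else if orderOf x = 4 then 1 else 2) = i} ⊆
        {x : Th | (x ∈ A ∧ x ∉ B) ∧ orderOf x = ![2, 4, 8] i} := by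
      rintro i x ⟨hx, rfl⟩
      refine ⟨⟨hx.1, hx.2.1⟩, ?_⟩
      rcases ho x hx with e | e | e <;> simp [e]
    refine (Set.ncard_le_ncard (this i) (Set.toFinite _)).trans (le_of_eq ?_)
    fin_cases i <;> rfl
  · rcases ho x hx with e | e | e
    · simpa [e] using (c2 e).le
    · simpa [e] using c4 e
    · simpa [e] using c8 e

theorem thr_three {A B : Subgroup Th} (h : IsPair A B) (hd : 3 ∣ B.relIndex A) :
    2 * 90745943887872000 ≤ nCls A xA ^ 2 * 12737088 + nCls A xB ^ 2 * 472392 + nCls A xC ^ 2 * 174960 := by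
  haveI := finTh
  have := h.count_order Nat.prime_three hd cl (fun x t _ => cl_conj x t) ![nCls A xA, nCls A xB, nCls A xC]
    ![12737088, 472392, 174960] (fun i => ?_) (fun x _ hx => cl_card hx)
  · rw [cardTh, Fin.sum_univ_three] at this
    simpa using this
  · have : ∀ i : Fin 3, {x | (x ∈ A ∧ orderOf x = 3) ∧ cl x = i} ⊆ {x : Th | x ∈ A ∧ IsConj (![xA, xB, xC] i) x} := by
      rintro i x ⟨hx, rfl⟩
      exact ⟨hx.1, cl_spec hx.2⟩
    refine (Set.ncard_le_ncard (this i) (Set.toFinite _)).trans (le_of_eq ?_)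
    fin_cases i <;> rfl

theorem thr_out3 {A B : Subgroup Th} (h : IsPair A B) (hd : 3 ∣ B.relIndex A) :
    6 * 90745943887872000 ≤
      3 * (oCls A B xA ^ 2 * 12737088 + oCls A B xB ^ 2 * 472392 + oCls A B xC ^ 2 * 174960) +
        (oOrd A B 9 + oOrd A B 27) ^ 2 * 5832 := by
  haveI := finTh
  haveI := Fintype.ofFinite Th
  let X : Set Th := {x | (x ∈ A ∧ x ∉ B) ∧ orderOf x = 3}
  let Y : Set Th := {x | (x ∈ A ∧ x ∉ B) ∧ (orderOf x = 9 ∨ orderOf x = 27)}
  have h1 := sum_count_le X cl (fun x _ t _ => cl_conj x t) ![oCls A B xA, oCls A B xB, oCls A B xC]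
    ![12737088, 472392, 174960] (fun i => by
      have : ∀ i : Fin 3, {x ∈ X | cl x = i} ⊆ {x : Th | (x ∈ A ∧ x ∉ B) ∧ IsConj (![xA, xB, xC] i) x} := by
        rintro i x ⟨hx, rfl⟩
        exact ⟨hx.1, cl_spec hx.2⟩
      refine (Set.ncard_le_ncard (this i) (Set.toFinite _)).trans (le_of_eq ?_)
      fin_cases i <;> rfl) (fun x hx => cl_card hx.2)
  have h2 := sum_count_le Y (fun _ => ()) (fun _ _ _ _ => rfl) (fun _ => oOrd A B 9 + oOrd A B 27) (fun _ => 5832)
    (fun _ => by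
      refine le_trans (Set.ncard_le_ncard ?_ (Set.toFinite _)) (Set.ncard_union_le _ _)
      rintro x ⟨⟨hx, e | e⟩, -⟩
      · exact Or.inl ⟨hx, e⟩
      · exact Or.inr ⟨hx, e⟩) (fun x hx => Nat.le_of_dvd (by norm_num) (c9 hx.2))
  have h3 : ∀ t : Th, 6 ≤ 3 * {x ∈ X | t⁻¹ * x * t ∈ X}.ncard + {x ∈ Y | t⁻¹ * x * t ∈ Y}.ncard := by
    intro t
    obtain ⟨x, hx, hxt, hxB, hxtB, k, hk⟩ := h.exists_pElem Nat.prime_three hd t
    have hk' : (t⁻¹ * x * t) ^ 3 ^ k = 1 := by rw [← conj_pow', hk]; simp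
    have pw : ∀ {y : Th} {j : ℕ}, y ∉ B → y ^ 3 ^ k = 1 → Nat.Coprime j 3 → y ^ j ∉ B := by
      intro y j hyB hy hj hb
      have hco : Nat.Coprime j (orderOf y) := (hj.pow_right k).coprime_dvd_right (orderOf_dvd_of_pow_eq_one hy)
      obtain ⟨m, hm⟩ := exists_pow_eq_self_of_coprime hco
      exact hyB (hm ▸ B.pow_mem hb m)
    have hop : ∀ {j : ℕ}, Nat.Coprime j 3 → orderOf (x ^ j) = orderOf x := fun hj =>
      Nat.Coprime.orderOf_pow ((hj.pow_right k).coprime_dvd_right (orderOf_dvd_of_pow_eq_one hk)).symm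
    have mem : ∀ {j : ℕ}, Nat.Coprime j 3 → (x ^ j ∈ A ∧ x ^ j ∉ B) ∧ (t⁻¹ * x ^ j * t ∈ A ∧ t⁻¹ * x ^ j * t ∉ B) :=
      fun hj => ⟨⟨A.pow_mem hx _, pw hxB hk hj⟩, by
        rw [conj_pow']; exact ⟨A.pow_mem hxt _, pw hxtB hk' hj⟩⟩
    rcases ord_three hk (fun e => hxB (e ▸ B.one_mem)) with e | e
    · have := le_ncard_of_powers (S := {x ∈ X | t⁻¹ * x * t ∈ X}) (x := x) (r := 3) (by rw [e]) (fun j h0 hj => by
        have hj' : Nat.Coprime j 3 := by interval_cases j <;> norm_num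
        exact ⟨⟨(mem hj').1, by rw [hop hj', e]⟩, (mem hj').2, by rw [orderOf_conj', hop hj', e]⟩)
      omega
    · classical
      have hle : 9 ≤ orderOf x := by omega
      have hc : (({1, 2, 4, 5, 7, 8} : Finset ℕ).image fun j => x ^ j).card = 6 := by
        rw [Finset.card_image_of_injOn]
        · rfl
        · intro i hi j hj e'
          simp only [Finset.coe_insert, Finset.coe_singleton, Set.mem_insert_iff, Set.mem_singleton_iff] at hi hj
          exact pow_injOn_Iio_orderOf (by simp; omega) (by simp; omega) e'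
      have : 6 ≤ {x ∈ Y | t⁻¹ * x * t ∈ Y}.ncard := by
        rw [← hc, ← Set.ncard_coe_finset]
        refine Set.ncard_le_ncard (fun y hy => ?_) (Set.toFinite _)
        simp only [Finset.coe_image, Set.mem_image, Finset.mem_coe] at hy
        obtain ⟨j, hj, rfl⟩ := hy
        have hj' : Nat.Coprime j 3 := by
          simp only [Finset.mem_insert, Finset.mem_singleton] at hj
          rcases hj with rfl | rfl | rfl | rfl | rfl | rfl <;> norm_num
        exact ⟨⟨(mem hj').1, by rw [hop hj']; exact e⟩, (mem hj').2, by rw [orderOf_conj', hop hj']; exact e⟩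
      omega
  have h4 := Finset.sum_le_sum (s := Finset.univ) fun t _ => h3 t
  rw [Finset.sum_add_distrib, ← Finset.mul_sum, Finset.sum_const, Finset.card_univ, ← Nat.card_eq_fintype_card, cardTh,
    smul_eq_mul] at h4
  rw [Fin.sum_univ_three] at h1
  simp only [Matrix.cons_val_zero, Matrix.cons_val_one, Matrix.cons_val, Finset.univ_unique, Finset.sum_singleton]
    at h1 h2
  omega

theorem thr_big {A B : Subgroup Th} (h : IsPair A B) (r : ℕ) (hr : r.Prime) (h11 : 11 ≤ r) (hd : r ∣ B.relIndex A) :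
    167000000 ≤ nOrd A r := by
  have h1 : r ∣ 2 ^ 15 * 3 ^ 10 * 5 ^ 3 * 7 ^ 2 * 13 * 19 * 31 :=
    (hd.trans (Dvd.intro_left _ (NegS.card_mul_relIndex h.le))).trans (sub_dvd A)
  have sm : ∀ {p k : ℕ}, p.Prime → r ∣ p ^ k → r = p := fun hp h =>
    (Nat.prime_dvd_prime_iff_eq hr hp).1 (hr.dvd_of_dvd_pow h)
  have : r = 13 ∨ r = 19 ∨ r = 31 := by
    simp only [hr.dvd_mul] at h1
    rcases h1 with (((((h1 | h1) | h1) | h1) | h1) | h1) | h1
    · have := sm Nat.prime_two h1; omega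
    · have := sm Nat.prime_three h1; omega
    · have := sm Nat.prime_five h1; omega
    · have := sm (by norm_num : Nat.Prime 7) h1; omega
    · exact Or.inl ((Nat.prime_dvd_prime_iff_eq hr (by norm_num)).1 h1)
    · exact Or.inr (Or.inl ((Nat.prime_dvd_prime_iff_eq hr (by norm_num)).1 h1))
    · exact Or.inr (Or.inr ((Nat.prime_dvd_prime_iff_eq hr (by norm_num)).1 h1))
  rcases this with rfl | rfl | rfl
  · exact thr_one h hr hd (fun _ => c13) (m := 166999999) (by norm_num)
  · exact thr_one h hr hd (fun _ => c19) (m := 166999999) (by norm_num)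
  · exact thr_one h hr hd (fun _ => c31) (m := 166999999) (by norm_num)

/-- **The thresholds.** -/
theorem thr : Thr where
  c2 := fun _ => c2
  cA := cA
  cB := cB
  cC := cC
  c9 := fun _ => c9
  c7 := fun _ h => by rw [c7 h]
  c13 := fun _ h => by rw [c13 h]
  two := fun h hd => thr_one h Nat.prime_two hd (fun _ => c2) (m := 31254) (by norm_num)
  out2 := thr_out2
  three := thr_three
  out3 := thr_out3
  five := fun h hd => thr_one h Nat.prime_five hd (fun _ => c5) (m := 10999753) (by norm_num)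
  seven := fun h hd => thr_one h (by norm_num) hd (fun _ => c7) (m := 21499999) (by norm_num)
  big := thr_big

end Cfsg.Agent.SP.NTh
end
end
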